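import Groth.Agent.AmpleX.Basis
import Groth.Agent.AmpleX.Sect
import Groth.Agent.InvX.Tensor
import Groth.Agent.H23.PicMul

/-!
# Covers by small affine generating loci of a common power
-/

set_option linter.style.haveILetI false
set_option backward.isDefEq.respectTransparency false
set_option backward.isDefEq.respectTransparency.types false

universe u

open CategoryTheory CategoryTheory.Limits AlgebraicGeometry TopologicalSpace Opposite
open Groth.Agent.H23.PicMul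

namespace Groth.Agent.VeryAmple

open Groth.Agent

variable {X S : Scheme.{u}}

theorem exists_genLocus_mul {L : X.Modules} (hL : PicF.IsInvertible L) {m : ℕ}
    (s : Coh.structureModule X ⟶ CohB1.tensorPow L m) {j : ℕ} (hj : 0 < j) :
    ∃ t : Coh.structureModule X ⟶ CohB1.tensorPow L (m * j),
      CohB1.genLocus _ t = CohB1.genLocus _ s := by
  obtain ⟨i, rfl⟩ := Nat.exists_eq_succ_of_ne_zero hj.ne'
  obtain ⟨t, ht⟩ := AmpleX.exists_section_of_cl_eq
    (A := CohB1.tensorPow (CohB1.tensorPow L m) (i + 1)) (B := CohB1.tensorPow L (m * (i + 1)))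
    (by rw [cl_tensorPow, cl_tensorPow, cl_tensorPow, pow_mul]) (InvX.powHom s (i + 1))
  exact ⟨t, ht.trans (InvX.genLocus_powHom (InvX.isInvertible_tensorPow hL m) s i)⟩

/-- A cover by affine generating loci over affine opens of the base, with frames of a given module. -/
theorem exists_cover (f : X ⟶ S) {L : X.Modules} (hL : CohB1.IsAmple L) {P : X.Modules}
    (hP : PicF.IsInvertible P) [X.IsSeparated] :
    ∃ (a : ℕ) (_ : 0 < a) (κ : Type u) (_ : Fintype κ)
      (σ : κ → (Coh.structureModule X ⟶ CohB1.tensorPow L a)) (V : κ → S.Opens),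
      (∀ i, IsAffineOpen (CohB1.genLocus _ (σ i))) ∧ (∀ i, IsAffineOpen (V i)) ∧
      (∀ i, CohB1.genLocus _ (σ i) ≤ f ⁻¹ᵁ V i) ∧
      (∀ i, ∃ e : Γ(P, CohB1.genLocus _ (σ i)), InvX.IsFrame e) ∧
      (∀ i, ∃ e : Γ(L, CohB1.genLocus _ (σ i)), InvX.IsFrame e) ∧
      ∀ x, ∃ i, x ∈ CohB1.genLocus _ (σ i) := by
  classical
  haveI : CompactSpace X := hL.2.1
  have hloc : ∀ x : X, ∃ (m : ℕ) (_ : 0 < m) (s : Coh.structureModule X ⟶ CohB1.tensorPow L m) (V : S.Opens),
      x ∈ CohB1.genLocus _ s ∧ IsAffineOpen (CohB1.genLocus _ s) ∧ IsAffineOpen V ∧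
      CohB1.genLocus _ s ≤ f ⁻¹ᵁ V ∧ (∃ e : Γ(P, CohB1.genLocus _ s), InvX.IsFrame e) ∧
      ∃ e : Γ(L, CohB1.genLocus _ s), InvX.IsFrame e := fun x => by
    obtain ⟨W, hxW, e, e', he, he'⟩ := InvX.exists_frame₂ hP hL.1 x
    obtain ⟨V, hV, hxV, -⟩ := exists_isAffineOpen_mem_and_subset (x := f.base x) (U := ⊤) trivial
    obtain ⟨m, hm, s, hx, hle, haff⟩ :=
      AmpleX.exists_genLocus_le hL (show x ∈ W ⊓ f ⁻¹ᵁ V from ⟨hxW, hxV⟩)
    exact ⟨m, hm, s, V, hx, haff, hV, hle.trans inf_le_right, ⟨_, he.res (hle.trans inf_le_left)⟩, _, he'.res (hle.trans inf_le_left)⟩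
  choose m hm s V hx haff hV hle he he' using hloc
  obtain ⟨t, ht⟩ := isCompact_univ.elim_finite_subcover (fun x => (CohB1.genLocus _ (s x) : Set X))
    (fun x => (CohB1.genLocus _ (s x)).2) (fun x _ => Set.mem_iUnion.2 ⟨x, hx x⟩)
  let a := ∏ x ∈ t, m x
  have hj : ∀ i : ↥t, ∃ j, 0 < j ∧ m i.1 * j = a := fun i =>
    ⟨∏ x ∈ t.erase i.1, m x, Finset.prod_pos fun x _ => hm x, Finset.mul_prod_erase t m i.2⟩
  have hσ : ∀ i : ↥t, ∃ σ : Coh.structureModule X ⟶ CohB1.tensorPow L a,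
      CohB1.genLocus _ σ = CohB1.genLocus _ (s i.1) := fun i => by
    obtain ⟨j, hj0, hja⟩ := hj i
    obtain ⟨σ, hσ⟩ := exists_genLocus_mul hL.1 (s i.1) hj0
    rw [← hja]
    exact ⟨σ, hσ⟩
  choose σ hσ using hσ
  refine ⟨a, Finset.prod_pos fun x _ => hm x, ↥t, inferInstance, σ, fun i => V i.1, fun i => by rw [hσ]; exact haff _,
    fun i => hV _, fun i => by rw [hσ]; exact hle _, fun i => by rw [hσ]; exact he _,
    fun i => by rw [hσ]; exact he' _, fun x => ?_⟩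
  obtain ⟨y, hy, hxy⟩ := Set.mem_iUnion₂.1 (ht (Set.mem_univ x))
  exact ⟨⟨y, hy⟩, by rw [hσ]; exact hxy⟩

end Groth.Agent.VeryAmple
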