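import Groth.Agent.VeryAmple.Chart
import Groth.Agent.VeryAmple.Cover
import Groth.Agent.Lib.AmpleEmbed
import Groth.Agent.AmpleX.Extend
import Groth.Agent.ProjUPX.Affine

/-!
# High twists of an ample module give immersions into projective space
-/

set_option linter.style.haveILetI false
set_option backward.isDefEq.respectTransparency false
set_option backward.isDefEq.respectTransparency.types false
set_option maxHeartbeats 1000000

universe u

open CategoryTheory CategoryTheory.Limits AlgebraicGeometry TopologicalSpace Opposite HomogeneousLocalization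
open Groth.Agent.H23.PicMul

namespace Groth.Agent.VeryAmple

open Groth.Agent

variable {X S : Scheme.{u}}

theorem generatedBy_of_locus {L : X.Modules} {κ : Type*} (s : κ → Γ(L, ⊤))
    (h : ∀ x, ∃ i, x ∈ H23.TrivBasic.locus (s i)) : ProjUP.GeneratedBy L s := fun x => by
  obtain ⟨i, hi⟩ := h x
  refine eq_top_iff.2 fun z _ => ?_
  obtain ⟨c, hc⟩ := ((H23.TrivBasic.isFrame_res_of_le_locus (le_refl (H23.TrivBasic.locus (s i)))).germ_bijective hi).2 z
  rw [← hc]
  refine Submodule.smul_mem _ c (Submodule.subset_span ⟨i, ?_⟩)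
  exact (InvX.germ_res' (le_top : H23.TrivBasic.locus (s i) ≤ ⊤) hi (s i)).symm

theorem isImmersion_of_cover {P : Scheme.{u}} (r : X ⟶ P) {κ : Type*} (D : κ → P.Opens)
    (hcov : ∀ x, ∃ i, x ∈ r ⁻¹ᵁ D i) (h : ∀ i, IsClosedImmersion (r ∣_ D i)) : IsImmersion r := by
  let O : P.Opens := ⨆ i, D i
  have htop : r ⁻¹ᵁ O = ⊤ := top_le_iff.1 fun x _ => by
    obtain ⟨i, hi⟩ := hcov x
    exact Opens.mem_iSup.2 ⟨i, hi⟩
  have hO : IsClosedImmersion (r ∣_ O) := by
    refine IsZariskiLocalAtTarget.of_iSup_eq_top (P := @IsClosedImmersion) (fun i => O.ι ⁻¹ᵁ D i)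
      (top_le_iff.1 fun y _ => ?_) fun i => ?_
    · obtain ⟨i, hi⟩ := Opens.mem_iSup.1 (show y.1 ∈ O from y.2)
      exact Opens.mem_iSup.2 ⟨i, hi⟩
    · have := h i
      have e := morphismRestrictRestrict r O (O.ι ⁻¹ᵁ D i)
      rw [MorphismProperty.arrow_mk_iso_iff (P := @IsClosedImmersion) e,
        MorphismProperty.arrow_mk_iso_iff (P := @IsClosedImmersion) (morphismRestrictEq r (V := D i) (by
          rw [O.ι.image_preimage_eq_opensRange_inf, Scheme.Opens.opensRange_ι]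
          exact inf_eq_right.2 (le_iSup D i)))]
      exact this
  haveI : IsIso (r ⁻¹ᵁ O).ι := by rw [htop]; exact X.topIso.isIso_hom
  have he : r = inv (r ⁻¹ᵁ O).ι ≫ (r ∣_ O) ≫ O.ι := by
    rw [morphismRestrict_ι, IsIso.inv_hom_id_assoc]
  haveI : IsImmersion (r ∣_ O) := inferInstance
  rw [he]
  infer_instance

theorem exists_generators {U : X.Opens} (hU : IsAffineOpen U) {V : S.Opens} (hV : IsAffineOpen V) (f : X ⟶ S)
    [LocallyOfFiniteType f] (hle : U ≤ f ⁻¹ᵁ V) :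
    ∃ G : Finset Γ(X, U), ∀ T : Subring Γ(X, U),
      Set.range (f.appLE V U hle).hom ⊆ T → (G : Set Γ(X, U)) ⊆ T → T = ⊤ := by
  let φ := (f.appLE V U hle).hom
  have hft : φ.FiniteType := f.finiteType_appLE hV hU hle
  letI := φ.toAlgebra
  obtain ⟨G, hG⟩ := (show Algebra.FiniteType Γ(S, V) Γ(X, U) from hft).out
  refine ⟨G, fun T h1 h2 => top_le_iff.1 fun x hx0 => ?_⟩
  clear hx0
  have hx : x ∈ Algebra.adjoin Γ(S, V) (G : Set Γ(X, U)) := hG ▸ Algebra.mem_top
  induction hx using Algebra.adjoin_induction with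
  | mem y hy => exact h2 hy
  | algebraMap c => exact h1 ⟨c, rfl⟩
  | add y z _ _ hy hz => exact T.add_mem hy hz
  | mul y z _ _ hy hz => exact T.mul_mem hy hz

variable (f : X ⟶ S) {L P : X.Modules}

/-- Twists `P ⊗ L^{aq} ⊗ L^a` for large `q` come from immersions. -/
theorem exists_immersion [LocallyOfFiniteType f] (hL : CohB1.IsAmple L) (hP : PicF.IsInvertible P)
    [X.IsSeparated] {a : ℕ} {κ : Type u} [Fintype κ] (σ : κ → (Coh.structureModule X ⟶ CohB1.tensorPow L a))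
    (V : κ → S.Opens) (hU : ∀ i, IsAffineOpen (CohB1.genLocus _ (σ i))) (hV : ∀ i, IsAffineOpen (V i))
    (hle : ∀ i, CohB1.genLocus _ (σ i) ≤ f ⁻¹ᵁ V i)
    (hfr : ∀ i, ∃ e : Γ(P, CohB1.genLocus _ (σ i)), InvX.IsFrame e)
    (hcov : ∀ x, ∃ i, x ∈ CohB1.genLocus _ (σ i)) :
    ∃ q₀ : ℕ, ∀ q, q₀ ≤ q → RelAmple.IsRelVeryAmplePn f
      (CohB1.tensorMod (CohB1.tensorMod P (CohB1.tensorPow (CohB1.tensorPow L a) q)) (CohB1.tensorPow L a)) := by
  classical
  haveI : CompactSpace X := hL.2.1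
  let La := CohB1.tensorPow L a
  have hLa : PicF.IsInvertible La := InvX.isInvertible_tensorPow hL.1 a
  let U : κ → X.Opens := fun i => CohB1.genLocus La (σ i)
  choose e he using hfr
  choose G hG using fun i => exists_generators (hU i) (hV i) f (hle i)
  let ι := Σ i, Option (G i)
  let b : ∀ p : ι, Γ(X, U p.1) := fun p => p.2.elim 1 (·.1)
  choose n₀ hn₀ using fun p : ι =>
    AmpleX.exists_extend (ProjUPX.isQCoh_of_isInvertible hP) hLa (σ p.1) (b p • e p.1)
  refine ⟨Finset.univ.sup n₀, fun q hq => ?_⟩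
  choose T hT using fun p : ι => hn₀ p q ((Finset.le_sup (Finset.mem_univ p)).trans hq)
  let A := CohB1.tensorMod P (CohB1.tensorPow La q)
  let M := CohB1.tensorMod A La
  have hA : PicF.IsInvertible A := InvX.isInvertible_tensorMod hP (InvX.isInvertible_tensorPow hLa q)
  have hM : PicF.IsInvertible M := InvX.isInvertible_tensorMod hA hLa
  let ε : ∀ i, Γ(La, U i) := fun i => AModX.res La (le_top : U i ≤ ⊤) (InvX.one (σ i))
  have hε : ∀ i, InvX.IsFrame (ε i) := fun i => AmpleX.res_genLocus_frame (σ i)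
  let base : ∀ i, Γ(M, U i) := fun i => InvX.tmul (InvX.tmul (e i) (AmpleX.powElt (ε i) q)) (ε i)
  have hbase : ∀ i, InvX.IsFrame (base i) := fun i =>
    InvX.isFrame_tmul (InvX.isFrame_tmul (he i) (AmpleX.isFrame_powElt (hε i) q)) (hε i)
  let T' : ι → Γ(M, ⊤) := fun p => InvX.tmul (T p) (InvX.one (σ p.1))
  have hT' : ∀ p, AModX.res M (le_top : U p.1 ≤ ⊤) (T' p) = b p • base p.1 := fun p => by
    rw [InvX.res_tmul, hT, InvX.tmul_smul_left, InvX.tmul_smul_left]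
  let S₀ : κ → Γ(M, ⊤) := fun i => T' ⟨i, none⟩
  have hS₀ : ∀ i, AModX.res M (le_top : U i ≤ ⊤) (S₀ i) = base i := fun i => (hT' ⟨i, none⟩).trans (one_smul _ _)
  have hlocus : ∀ i, H23.TrivBasic.locus (S₀ i) = U i := fun i => by
    refine le_antisymm ?_ (H23.TrivBasic.le_locus (by rw [hS₀]; exact hbase i))
    have h := InvX.genLocus_mulHom hA hLa (InvX.ofSect (T ⟨i, none⟩)) (σ i)
    refine le_trans (le_of_eq (Eq.trans ?_ h)) inf_le_right
    show CohB1.genLocus _ (InvX.ofSect _) = CohB1.genLocus _ (InvX.ofSect _)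
    rw [InvX.one_ofSect]
  rcases isEmpty_or_nonempty X with hX | ⟨⟨x₀⟩⟩
  · obtain ⟨r, -, τ, -⟩ := S3572.result 0 (specULiftZIsTerminal.from X) M hM (fun _ => (0 : Γ(M, ⊤)))
      fun x => (hX.false x).elim
    let i := pullback.lift (f := CohB1.ProjSpace.toSpec 0 (ULift.{u} ℤ)) (g := specULiftZIsTerminal.from S) r f
      (specULiftZIsTerminal.hom_ext _ _)
    haveI : IsOpenImmersion i := inferInstance
    exact ⟨0, i, inferInstance, pullback.lift_snd _ _ _, ⟨τ.symm ≪≫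
      (Scheme.Modules.pullbackCongr (pullback.lift_fst _ _ _).symm).app _ ≪≫
      ((Scheme.Modules.pullbackComp i (pullback.fst _ _)).app _).symm⟩⟩
  obtain ⟨n, ⟨idx⟩⟩ : ∃ n, Nonempty (Fin (n + 1) ≃ ι) := by
    obtain ⟨i, -⟩ := hcov x₀
    haveI : Nonempty ι := ⟨⟨i, none⟩⟩
    obtain ⟨n, hn⟩ := Nat.exists_eq_add_one.2 (Fintype.card_pos (α := ι))
    exact ⟨n, ⟨((finCongr hn.symm).trans (Fintype.equivFin _).symm)⟩⟩
  let s : Fin (n + 1) → Γ(M, ⊤) := fun j => T' (idx j)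
  have hs : ProjUP.GeneratedBy M s := generatedBy_of_locus s fun x => by
    obtain ⟨i, hi⟩ := hcov x
    exact ⟨idx.symm ⟨i, none⟩, by
      show x ∈ H23.TrivBasic.locus (T' _)
      rw [Equiv.apply_symm_apply]
      show x ∈ H23.TrivBasic.locus (S₀ i)
      rw [hlocus]
      exact hi⟩
  obtain ⟨r, -, τ, hτ⟩ := S3572.result n (specULiftZIsTerminal.from X) M hM s hs
  let π : CohB1.ProjSpaceOver n S ⟶ CohB1.ProjSpace n (ULift.{u} ℤ) :=
    pullback.fst (CohB1.ProjSpace.toSpec n (ULift.{u} ℤ)) (specULiftZIsTerminal.from S)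
  let i' : X ⟶ CohB1.ProjSpaceOver n S := pullback.lift r f (specULiftZIsTerminal.hom_ext _ _)
  have hfst : i' ≫ π = r := pullback.lift_fst _ _ _
  have hsnd : i' ≫ CohB1.ProjSpaceOver.toBase n S = f := pullback.lift_snd _ _ _
  let D : κ → (CohB1.ProjSpace n (ULift.{u} ℤ)).Opens := fun i =>
    Proj.basicOpen (CohB1.polyGrading n (ULift.{u} ℤ)) (MvPolynomial.X (idx.symm ⟨i, none⟩))
  have hτ' : ∀ p, τ.hom.app ⊤ (ProjUP.pullSec r _ (ProjUP.coord n (ULift.{u} ℤ) (idx.symm p))) = T' p := fun p => by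
    rw [hτ]; show T' _ = _; rw [Equiv.apply_symm_apply]
  have hpre : ∀ i, r ⁻¹ᵁ D i = U i := fun i => (AmpleEmbed.preimage_chart r τ _ (hτ' ⟨i, none⟩)).trans (hlocus i)
  let D' : κ → (CohB1.ProjSpaceOver n S).Opens := fun i => π ⁻¹ᵁ D i ⊓ CohB1.ProjSpaceOver.toBase n S ⁻¹ᵁ V i
  have hpre' : ∀ i, i' ⁻¹ᵁ D' i = U i := fun i => by
    show i' ⁻¹ᵁ (π ⁻¹ᵁ D i) ⊓ i' ⁻¹ᵁ (CohB1.ProjSpaceOver.toBase n S ⁻¹ᵁ V i) = U i
    rw [← Scheme.Hom.comp_preimage, ← Scheme.Hom.comp_preimage, hfst, hsnd, hpre]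
    exact inf_eq_left.2 (hle i)
  haveI hI : IsImmersion i' := by
    refine isImmersion_of_cover i' D' (fun x => ?_) fun i => ?_
    · obtain ⟨i, hi⟩ := hcov x
      exact ⟨i, (hpre' i).ge hi⟩
    haveI : IsAffine (D' i : Scheme) :=
      isAffineOpen_chart n (hV i) (Proj.isAffineOpen_basicOpen _ _ (ProjPt.X_mem _) one_pos)
    haveI : IsAffine (i' ⁻¹ᵁ D' i : Scheme) := by rw [hpre']; exact hU i
    refine IsClosedImmersion.of_surjective_of_isAffine _ ?_
    have hsurj : Function.Surjective (i'.appLE (D' i) (U i) (hpre' i).ge) := by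
      refine RingHom.range_eq_top.1 (hG i _ ?_ ?_)
      · rintro _ ⟨c, rfl⟩
        refine ⟨(CohB1.ProjSpaceOver.toBase n S).appLE (V i) (D' i) inf_le_right c, ?_⟩
        rw [← CommRingCat.comp_apply, Scheme.Hom.appLE_comp_appLE]
        simp only [hsnd]
        rfl
      · intro c hc
        refine ⟨π.appLE (D i) (D' i) inf_le_left
          ((Proj.awayToSection (CohB1.polyGrading n (ULift.{u} ℤ)) (MvPolynomial.X (idx.symm ⟨i, none⟩))).hom
          (Away.mk (CohB1.polyGrading n (ULift.{u} ℤ)) (ProjPt.X_mem _) 1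
            (MvPolynomial.X (idx.symm ⟨i, some ⟨c, hc⟩⟩)) (by rw [one_smul]; exact ProjPt.X_mem _))), ?_⟩
        rw [← CommRingCat.comp_apply, Scheme.Hom.appLE_comp_appLE]
        simp only [hfst]
        refine AmpleEmbed.ratioOf_eq r τ _ _ (hτ' ⟨i, none⟩) (hτ' ⟨i, some ⟨c, hc⟩⟩) (hpre i).ge c ?_
        rw [show AModX.res M (le_top : U i ≤ ⊤) (T' ⟨i, none⟩) = base i from hS₀ i]
        exact hT' ⟨i, some ⟨c, hc⟩⟩
    intro z
    rw [morphismRestrict_appTop]
    obtain ⟨y, hy⟩ := hsurj (X.presheaf.map (eqToHom (hpre' i).symm).op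
      ((i' ⁻¹ᵁ D' i).topIso.hom z))
    refine ⟨(D' i).topIso.inv y, (ConcreteCategory.bijective_of_isIso (i' ⁻¹ᵁ D' i).topIso.hom).1 ?_⟩
    apply (ConcreteCategory.bijective_of_isIso (X.presheaf.map (eqToHom (hpre' i).symm).op)).1
    rw [← hy]
    simp only [← CommRingCat.comp_apply]
    congr 2
    simp only [Scheme.Hom.appLE, Scheme.Opens.topIso, Category.assoc]
    simp [← Functor.map_comp]
    rw [i'.naturality_assoc, ← Functor.map_comp]
    rfl
  exact ⟨n, i', hI, hsnd, ⟨τ.symm ≪≫ (Scheme.Modules.pullbackCongr hfst.symm).app _ ≪≫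
    ((Scheme.Modules.pullbackComp i' π).app _).symm⟩⟩

/-- High powers of an ample module, twisted by an invertible module, are very ample. -/
theorem eventually_veryAmplePn [LocallyOfFiniteType f] (hL : CohB1.IsAmple L) {L' : X.Modules}
    (hL' : PicF.IsInvertible L') : ∃ n₀ : ℕ, ∀ n, n₀ ≤ n → ∀ E : X.Modules,
      PicF.cl E = PicF.cl (CohB1.tensorMod (CohB1.tensorPow L n) L') → RelAmple.IsRelVeryAmplePn f E := by
  haveI := AmpleX.isSeparated_of_isAmple hL
  obtain ⟨a, ha, κ, _, σ, V, hU, hV, hle, hfr, hfrl, hcov⟩ := exists_cover f hL hL'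
  have hfrL : ∀ (b : ℕ) (i : κ), ∃ g : Γ(CohB1.tensorMod L' (CohB1.tensorPow L b), CohB1.genLocus _ (σ i)),
      InvX.IsFrame g := fun b i => by
    obtain ⟨e, he⟩ := hfr i
    obtain ⟨g, hg⟩ := hfrl i
    exact ⟨InvX.tmul e (AmpleX.powElt g b), InvX.isFrame_tmul he (AmpleX.isFrame_powElt hg b)⟩
  choose q₀ hq₀ using fun b : Fin a => exists_immersion f hL
    (InvX.isInvertible_tensorMod hL' (InvX.isInvertible_tensorPow hL.1 b.1)) σ V hU hV hle (hfrL b.1) hcov
  refine ⟨a * (Finset.univ.sup q₀ + 1), fun n hn E hE => ?_⟩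
  let b : Fin a := ⟨n % a, Nat.mod_lt _ ha⟩
  have h1 : Finset.univ.sup q₀ + 1 ≤ n / a := (Nat.le_div_iff_mul_le ha).2 (le_of_eq_of_le (mul_comm _ _) hn)
  obtain ⟨m, i, hi, hi', ⟨φ⟩⟩ := hq₀ b (n / a - 1) (le_trans (Finset.le_sup (Finset.mem_univ b)) (by omega))
  obtain ⟨ψ⟩ : Nonempty (E ≅ _) := cl_eq_iff.1 (show PicF.cl E = PicF.cl (CohB1.tensorMod (CohB1.tensorMod
    (CohB1.tensorMod L' (CohB1.tensorPow L b.1)) (CohB1.tensorPow (CohB1.tensorPow L a) (n / a - 1)))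
      (CohB1.tensorPow L a)) by
    rw [hE, cl_tensor, cl_tensor, cl_tensor, cl_tensor, cl_tensorPow, cl_tensorPow, cl_tensorPow, cl_tensorPow,
      ← pow_mul, mul_assoc, mul_assoc, ← pow_add, ← pow_add, mul_comm]
    congr 2
    show n = n % a + (a * (n / a - 1) + a)
    conv_lhs => rw [← Nat.mod_add_div n a]
    congr 1
    obtain ⟨k, hk⟩ := Nat.exists_eq_succ_of_ne_zero (show n / a ≠ 0 by omega)
    rw [hk, Nat.succ_eq_add_one, Nat.add_sub_cancel, Nat.mul_succ])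
  exact ⟨m, i, hi, hi', ⟨ψ ≪≫ φ⟩⟩

end Groth.Agent.VeryAmple
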