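import Groth.Agent.VeryAmple.Main
import Groth.Agent.AmpleVan.Pull
import Groth.Agent.AmpleX.RelAffine
import Groth.Agent.AmpleX.Pow
import Groth.Agent.TwistFlat.Base

/-!
# Very ample modules over an affine base are ample
-/

set_option linter.style.haveILetI false
set_option backward.isDefEq.respectTransparency false
set_option backward.isDefEq.respectTransparency.types false

universe u

open CategoryTheory CategoryTheory.Limits AlgebraicGeometry TopologicalSpace Opposite
open Groth.Agent.H23.PicMul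

namespace Groth.Agent.VeryAmple

open Groth.Agent

theorem isAmple_of_veryAmplePn {X Y : Scheme.{u}} [IsAffine Y] (f : X ⟶ Y) [CompactSpace X] {L : X.Modules}
    (h : RelAmple.IsRelVeryAmplePn f L) : CohB1.IsAmple L := by
  obtain ⟨n, i, hi, -, ⟨φ⟩⟩ := h
  let W := CohB1.ProjSpaceOver.toBase n Y ⁻¹ᵁ (⊤ : Y.Opens)
  have hamp : CohB1.IsAmple ((Twist.twistOver n Y 1).restrict W.ι) :=
    (TwistFlat.isRelAmple_twistOver n).2 ⟨⊤, isAffineOpen_top Y⟩
  let i' : X ⟶ W := IsOpenImmersion.lift W.ι i (by rw [Scheme.Opens.range_ι]; exact fun x _ => trivial)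
  have hf : i' ≫ W.ι = i := IsOpenImmersion.lift_fac _ _ _
  haveI : IsImmersion i' := by
    haveI : IsImmersion (i' ≫ W.ι) := hf.symm ▸ hi
    exact IsImmersion.of_comp i' W.ι
  refine AmpleX.isAmple_of_iso ?_ (AmpleVan.isAmple_pullback_of_isEmbedding i' i'.isEmbedding hamp)
  exact (Scheme.Modules.pullback i').mapIso ((Scheme.Modules.restrictFunctorIsoPullback W.ι).app _) ≪≫
    (Scheme.Modules.pullbackComp i' W.ι).app _ ≪≫ (Scheme.Modules.pullbackCongr hf).app _ ≪≫ φ.symm

end Groth.Agent.VeryAmple
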