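import Groth.Agent.CohBasic.PnBC

/-!
# Affine charts of projective space over a scheme
-/

set_option linter.style.haveILetI false
set_option backward.isDefEq.respectTransparency false
set_option backward.isDefEq.respectTransparency.types false
set_option autoImplicit false

universe u

open CategoryTheory CategoryTheory.Limits AlgebraicGeometry TopologicalSpace Opposite

namespace Groth.Agent.VeryAmple

open Groth.Agent

theorem isAffineOpen_chart (r : ℕ) {Y : Scheme.{u}} {V : Y.Opens} (hV : IsAffineOpen V)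
    {D : (CohB1.ProjSpace r (ULift.{u} ℤ)).Opens} (hD : IsAffineOpen D) :
    IsAffineOpen (((pullback.fst (CohB1.ProjSpace.toSpec r (ULift.{u} ℤ)) (specULiftZIsTerminal.from Y)) ⁻¹ᵁ D :
      (CohB1.ProjSpaceOver r Y).Opens) ⊓ CohB1.ProjSpaceOver.toBase r Y ⁻¹ᵁ V) := by
  let U : (CohB1.ProjSpaceOver r Y).Opens := CohB1.ProjSpaceOver.toBase r Y ⁻¹ᵁ V
  letI : (U : Scheme.{u}).Over (Spec (CommRingCat.of Γ(Y, V))) :=
    ⟨QCoh.overSpec (CohB1.ProjSpaceOver.toBase r Y) hV⟩
  have h := CohBasic.exists_pullback_square r (Y := Y) hV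
  haveI : IsAffineHom (U.ι ≫ pullback.fst (CohB1.ProjSpace.toSpec r (ULift.{u} ℤ)) (specULiftZIsTerminal.from Y)) :=
    MorphismProperty.of_isPullback (P := @IsAffineHom) h.flip inferInstance
  have h1 := (hD.preimage (U.ι ≫ pullback.fst (CohB1.ProjSpace.toSpec r (ULift.{u} ℤ))
    (specULiftZIsTerminal.from Y))).image_of_isOpenImmersion U.ι
  rw [Scheme.Hom.comp_preimage, Scheme.Hom.image_preimage_eq_opensRange_inf, Scheme.Opens.opensRange_ι,
    inf_comm] at h1
  exact h1

end Groth.Agent.VeryAmple
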